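import Cfsg.Agent.H2.FrE2c
import Cfsg.Agent.H6.FrM

/-!
# Piece (E) of the frame theorem
-/

set_option autoImplicit false

namespace Cfsg.Agent.SmallDim.Fr

open Cfsg.Agent.Orth Cfsg.Agent.GeoMax.Ort

theorem light_of_three {F : Type*} [Field F] [Fintype F] {ι : Type} [Fintype ι] [DecidableEq ι]
    (hp : (Fintype.card F).Prime) (hn : 10 ≤ Fintype.card ι) {M : Subgroup (OGrp (Q0 F ι))} (hM : Base M)
    (J : Finset ι) (hJ : J.card = 3) (hex : ∃ g ∈ M, Fix J g ∧ ¬ Mon g) : Light M :=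
  light_of_three_aux hp hn (fun h3 G hdet h4 hreg => mon_of_regular hM.two h3 G hdet h4 hreg) hM J hJ hex

end Cfsg.Agent.SmallDim.Fr
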