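import Cfsg.Agent.H6.PyrNA3
import Cfsg.Agent.S1137
import Cfsg.Agent.S1138

set_option autoImplicit false
set_option maxHeartbeats 1000000
set_option maxRecDepth 100000

/-!
S3930, piece NA.
-/

universe u

namespace Cfsg.Agent.H6.PyrNA

open Cfsg.Agent.H33

theorem exists_psi {E : Type*} [Group E] [Finite E] (h2 : ∀ x : E, x * x = 1) (h8 : Nat.card E = 8) :
    ∃ ψ : E → E3, (∀ x y, ψ (x * y) = ψ x + ψ y) ∧ Function.Bijective ψ := by
  classical
  have hinv : ∀ x : E, x⁻¹ = x := fun x => inv_eq_of_mul_eq_one_left (h2 x)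
  letI : CommGroup E := { (inferInstance : Group E) with
    mul_comm := fun a b => by
      calc a * b = (a * b)⁻¹ := (hinv _).symm
        _ = b⁻¹ * a⁻¹ := mul_inv_rev _ _
        _ = b * a := by rw [hinv, hinv] }
  letI : Module (ZMod 2) (Additive E) := AddCommGroup.zmodModule (by
    intro x
    rw [two_nsmul]
    exact congrArg Additive.ofMul (h2 x.toMul))
  have hfin : Fintype (Additive E) := Fintype.ofFinite _
  have h1 := Module.card_eq_pow_finrank (K := ZMod 2) (V := Additive E)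
  have h3 : Module.finrank (ZMod 2) (Additive E) = 3 := by
    rw [← Nat.card_eq_fintype_card, ZMod.card] at h1
    have h4 : Nat.card (Additive E) = 2 ^ 3 := h8
    rw [h4] at h1
    exact (Nat.pow_right_injective (le_refl 2) h1).symm
  have h5 : Module.finrank (ZMod 2) (Additive E) = Module.finrank (ZMod 2) E3 := by
    rw [h3]; simp
  let e := LinearEquiv.ofFinrankEq (Additive E) E3 h5
  refine ⟨fun x => e (Additive.ofMul x), fun x y => ?_, ?_⟩
  · exact map_add e (Additive.ofMul x) (Additive.ofMul y)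
  · exact e.bijective.comp Additive.ofMul.bijective

theorem hh_reg : ∀ e f : E3, e ≠ 0 → f ≠ 0 → ∃ i : Fin 7, ac (hh ^ (i : ℕ)) e = f ∧
    ∀ j : Fin 7, ac (hh ^ (j : ℕ)) e = f → j = i := by
  decide +kernel

/-- lifting an automorphism -/
theorem exists_aut {E : Type*} [Group E] (ψ : E → E3) (ψm : ∀ x y, ψ (x * y) = ψ x + ψ y)
    (ψi : Function.Bijective ψ) (g : L3) : ∃ φ : E ≃* E, ∀ v, ψ (φ v) = ac g (ψ v) := by
  let e := Equiv.ofBijective ψ ψi
  have he : ∀ x, ψ (e.symm x) = x := fun x => e.apply_symm_apply x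
  refine ⟨
    { toFun := fun v => e.symm (ac g (ψ v))
      invFun := fun v => e.symm (ac g⁻¹ (ψ v))
      left_inv := fun v => by
        apply ψi.1
        rw [he, he, ac_inv]
      right_inv := fun v => by
        apply ψi.1
        rw [he, he, ac_inv']
      map_mul' := fun x y => by
        apply ψi.1
        rw [he, ψm, ψm, he, he, ac_add] }, fun v => he _⟩

theorem na {G : Type u} [Group G] [Finite G] (E : Subgroup G) [E.Normal] (hE : ∀ x : G, x ∈ E ↔ x * x = 1)
    (h8 : Nat.card E = 8) (hQ : IsPGroup 2 (Subgroup.centralizer (E : Set G)))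
    (hA : ∀ φ : E ≃* E, ∃ g : G, ∀ v : E, g * v * g⁻¹ = (φ v : G))
    (hna : ¬ ∀ x ∈ Subgroup.centralizer (E : Set G), ∀ y ∈ Subgroup.centralizer (E : Set G), x * y = y * x) :
    False := by
  classical
  have hEE : ∀ x : E, x * x = 1 := fun x => Subtype.ext ((hE x).1 x.2)
  have hinv : ∀ x : E, x⁻¹ = x := fun x => inv_eq_of_mul_eq_one_left (hEE x)
  have Eab : ∀ a b : E, a * b = b * a := fun a b => by
    calc a * b = (a * b)⁻¹ := (hinv _).symm
      _ = b⁻¹ * a⁻¹ := mul_inv_rev _ _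
      _ = b * a := by rw [hinv, hinv]
  set Q := Subgroup.centralizer (E : Set G) with hQdef
  have hEQ : E ≤ Q := by
    intro a ha
    rw [hQdef, Subgroup.mem_centralizer_iff]
    intro b hb
    exact congrArg Subtype.val (Eab ⟨b, hb⟩ ⟨a, ha⟩)
  have hQn : Q.Normal := by
    rw [hQdef]; infer_instance
  have hQc : ∀ x ∈ Q, ∀ e ∈ E, e * x = x * e := fun x hx e he => (Subgroup.mem_centralizer_iff.1 hx) e he
  obtain ⟨ψE, ψm, ψi⟩ := exists_psi hEE h8
  have ψ1 : ψE 1 = 0 := by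
    have := ψm 1 1
    rw [one_mul] at this
    exact (left_eq_add.1 this)
  have ψ0 : ∀ x, ψE x = 0 ↔ x = 1 := by
    intro x
    constructor
    · intro h
      exact ψi.1 (h.trans ψ1.symm)
    · rintro rfl
      exact ψ1
  -- conjugation on E
  let cE : G → E → E := fun x v => ⟨x * v * x⁻¹, (inferInstance : E.Normal).conj_mem v v.2 x⟩
  have cE_mul : ∀ x y v, cE (x * y) v = cE x (cE y v) := by
    intro x y v
    apply Subtype.ext
    show x * y * (v : G) * (x * y)⁻¹ = x * (y * v * y⁻¹) * x⁻¹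
    group
  have cE_one : ∀ v, cE 1 v = v := by
    intro v
    apply Subtype.ext
    show 1 * (v : G) * 1⁻¹ = v
    group
  have cE_inj : ∀ x v w, cE x v = cE x w → v = w := by
    intro x v w h
    rw [← cE_one v, ← cE_one w, ← inv_mul_cancel x, cE_mul, cE_mul, h]
  have cE_Q : ∀ x, (∀ v, cE x v = v) → x ∈ Q := by
    intro x h
    rw [hQdef, Subgroup.mem_centralizer_iff]
    intro e he
    have h1 : x * e * x⁻¹ = e := congrArg Subtype.val (h ⟨e, he⟩)
    exact (mul_inv_eq_iff_eq_mul.1 h1).symm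
  have hlift : ∀ g : L3, ∃ x : G, ∀ v, ψE (cE x v) = ac g (ψE v) := by
    intro g
    obtain ⟨φ, hφ⟩ := exists_aut ψE ψm ψi g
    obtain ⟨x, hx⟩ := hA φ
    refine ⟨x, fun v => ?_⟩
    rw [← hφ]
    congr 1
    exact Subtype.ext (hx v)
  choose s hs using hlift
  -- the Suzuki group
  have hpow : ∀ (x : G) (g : L3), (∀ v, ψE (cE x v) = ac g (ψE v)) → ∀ n : ℕ, ∀ v, ψE (cE (x ^ n) v) = ac (g ^ n) (ψE v) := by
    intro x g h n
    induction n with
    | zero => intro v; rw [pow_zero, pow_zero, cE_one, ac_one]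
    | succ n ih => intro v; rw [pow_succ, pow_succ, cE_mul, ih, h, ac_mul]
  have hs7 : s hh ^ 7 ∈ Q := by
    apply cE_Q
    intro v
    apply ψi.1
    rw [hpow _ _ (hs hh), rh, ac_one]
  obtain ⟨k, hk⟩ := hQ ⟨_, hs7⟩
  have hk' : (s hh ^ 7) ^ 2 ^ k = 1 := congrArg Subtype.val hk
  set τ := s hh ^ 8 ^ k with hτ
  have hτ7 : τ ^ 7 = 1 := by
    rw [hτ, ← pow_mul, mul_comm, pow_mul, show (8 : ℕ) = 2 * 4 from rfl, mul_pow, pow_mul, hk', one_pow]
  have hτE : ∀ n v, ψE (cE (τ ^ n) v) = ac (hh ^ n) (ψE v) := by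
    apply hpow
    intro v
    rw [hτ, hpow _ _ (hs hh), h7 (8 ^ k) 1 (by rw [Nat.pow_mod]; simp), pow_one]
  have hsuz : IsSuzukiTwoGroup Q := by
    refine ⟨inferInstance, hQ, ?_, ?_, ?_⟩
    · push Not at hna
      obtain ⟨x, hx, y, hy, hxy⟩ := hna
      exact ⟨⟨x, hx⟩, ⟨y, hy⟩, fun h => hxy (congrArg Subtype.val h)⟩
    · obtain ⟨x, hx⟩ := ψi.2 b1
      obtain ⟨y, hy⟩ := ψi.2 b2
      have hx1 : (x : G) ≠ 1 := fun h => b1ne (by
        rw [← hx]; exact (ψ0 _).2 (Subtype.ext h))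
      have hy1 : (y : G) ≠ 1 := fun h => b2ne (by
        rw [← hy]; exact (ψ0 _).2 (Subtype.ext h))
      refine ⟨⟨x, hEQ x.2⟩, ⟨y, hEQ y.2⟩, ?_, ?_, ?_, ?_, ?_⟩
      · intro h
        apply b12
        rw [← hx, ← hy]
        congr 1
        exact Subtype.ext (congrArg (fun z : Q => (z : G)) h)
      · exact fun h => hx1 (congrArg (fun z : Q => (z : G)) h)
      · exact Subtype.ext ((hE x).1 x.2)
      · exact fun h => hy1 (congrArg (fun z : Q => (z : G)) h)
      · exact Subtype.ext ((hE y).1 y.2)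
    · set α : MulAut Q := MulAut.conjNormal τ with hα
      have hα7 : α ^ 7 = 1 := by rw [hα, ← map_pow, hτ7, map_one]
      have hαE : ∀ (n : ℕ) (x : Q) (hx : (x : G) ∈ E), ((α ^ n) x : G) = (cE (τ ^ n) ⟨x, hx⟩ : G) := by
        intro n x hx
        rw [hα, ← map_pow, MulAut.conjNormal_apply]
      refine ⟨Subgroup.zpowers α, inferInstance, ?_⟩
      intro x y hx1 hx hy1 hy
      have hxE : (x : G) ∈ E := (hE _).2 (congrArg Subtype.val hx)
      have hyE : (y : G) ∈ E := (hE _).2 (congrArg Subtype.val hy)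
      have hxn : ψE ⟨x, hxE⟩ ≠ 0 := fun h => hx1 (Subtype.ext (congrArg (fun z : E => (z : G)) ((ψ0 _).1 h)))
      have hyn : ψE ⟨y, hyE⟩ ≠ 0 := fun h => hy1 (Subtype.ext (congrArg (fun z : E => (z : G)) ((ψ0 _).1 h)))
      obtain ⟨i, hi, hu⟩ := hh_reg _ _ hxn hyn
      have key : ∀ n : ℕ, (α ^ n) x = y ↔ ac (hh ^ n) (ψE ⟨x, hxE⟩) = ψE ⟨y, hyE⟩ := by
        intro n
        rw [← hτE]
        constructor
        · intro h
          congr 1
          apply Subtype.ext
          rw [← hαE, h]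
        · intro h
          have h1 := ψi.1 h
          apply Subtype.ext
          rw [hαE n x hxE, h1]
      refine ⟨⟨α ^ (i : ℕ), Subgroup.npow_mem_zpowers α i⟩, (key i).2 hi, ?_⟩
      rintro ⟨β, hβ⟩ hβx
      obtain ⟨n, hn⟩ := (isOfFinOrder_of_finite α).mem_powers_iff_mem_zpowers.2 hβ
      have hn' : α ^ n = β := hn
      apply Subtype.ext
      show β = α ^ (i : ℕ)
      have h1 : α ^ n = α ^ (n % 7) := pow_eq_pow_mod n hα7
      have h2 : (α ^ (n % 7)) x = y := by rw [← h1, hn']; exact hβx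
      have h3 := hu ⟨n % 7, Nat.mod_lt _ (by norm_num)⟩ ((key _).1 h2)
      rw [← hn', h1, ← h3]
  have hS1 := Cfsg.Agent.S1137.result hsuz
  have hS2 := Cfsg.Agent.S1138.result hsuz
  set F : Subgroup Q := E.subgroupOf Q with hF
  have hFm : ∀ x : Q, x ∈ F ↔ (x : G) ∈ E := fun x => Subgroup.mem_subgroupOf
  have cen : ∀ e ∈ F, ∀ x : Q, e * x = x * e := by
    intro e he x
    exact Subtype.ext (hQc x x.2 e ((hFm _).1 he))
  have inv : ∀ x : Q, x ∈ F ↔ x * x = 1 := by
    intro x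
    rw [hFm, hE]
    constructor
    · intro h; exact Subtype.ext h
    · intro h; exact congrArg Subtype.val h
  have sq : ∀ x : Q, x * x ∈ F := by
    intro x
    rw [inv]
    by_cases h : x * x = 1
    · rw [h, one_mul]
    · exact ((hS1.1 (x * x)).2 ⟨hS2.1 x, h⟩).2
  haveI hFn : F.Normal := by rw [hF]; infer_instance
  have hcomm := core F cen inv sq (fun x => ψE ⟨(x : Q), (hFm _).1 x.2⟩) (fun x y => ψm ⟨((x : Q) : G), (hFm _).1 x.2⟩ ⟨((y : Q) : G), (hFm _).1 y.2⟩) ⟨?_, ?_⟩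
    (fun g => MulAut.conjNormal (s g)) ?_ ?_ ?_
  · apply hna
    intro x hx y hy
    exact congrArg Subtype.val (hcomm ⟨x, hx⟩ ⟨y, hy⟩)
  · intro x y h
    have h1 := congrArg Subtype.val (ψi.1 h)
    exact Subtype.ext (Subtype.ext h1)
  · intro e
    obtain ⟨v, hv⟩ := ψi.2 e
    exact ⟨⟨⟨v, hEQ v.2⟩, (hFm _).2 v.2⟩, hv⟩
  · intro g x
    rw [← hs]
    congr 1
  · intro g h x
    set z : G := (s (g * h))⁻¹ * (s g * s h) with hz
    have hzQ : z ∈ Q := by
      apply cE_Q
      intro v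
      have h1 : cE (s (g * h)) (cE z v) = cE (s (g * h)) v := by
        apply ψi.1
        rw [← cE_mul, hz, mul_inv_cancel_left, cE_mul, hs, hs, hs, ac_mul]
      exact cE_inj _ _ _ h1
    have h1 := PyrQ.comm_mem F sq x ⟨z, hzQ⟩
    rw [hFm] at h1 ⊢
    have h2 := (inferInstance : E.Normal).conj_mem _ h1 (s (g * h))
    convert h2 using 1
    simp only [Subgroup.coe_mul, Subgroup.coe_inv, MulAut.conjNormal_apply, hz]
    group
  · intro x
    have hzQ : s 1 ∈ Q := by
      apply cE_Q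
      intro v
      apply ψi.1
      rw [hs, ac_one]
    have h1 := PyrQ.comm_mem F sq (⟨s 1, hzQ⟩ : Q)⁻¹ x⁻¹
    rw [hFm] at h1 ⊢
    convert h1 using 1
    simp only [Subgroup.coe_mul, Subgroup.coe_inv, MulAut.conjNormal_apply]
    group

end Cfsg.Agent.H6.PyrNA
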