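import Mathlib

set_option autoImplicit false
set_option maxHeartbeats 1000000
set_option maxRecDepth 100000

/-!
S3930, piece NA: facts on GL(3,2).
-/

namespace Cfsg.Agent.H6.PyrNA

abbrev E3 := Fin 3 → ZMod 2
abbrev M3 := Matrix (Fin 3) (Fin 3) (ZMod 2)
abbrev L3 := Matrix.GeneralLinearGroup (Fin 3) (ZMod 2)

/-- the action -/
def ac (g : L3) (e : E3) : E3 := (g : M3).mulVec e

theorem ac_mul (g h : L3) (e : E3) : ac (g * h) e = ac g (ac h e) := by
  simp [ac, Matrix.mulVec_mulVec]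
theorem ac_one (e : E3) : ac 1 e = e := by simp [ac]
theorem ac_add (g : L3) (e f : E3) : ac g (e + f) = ac g e + ac g f := by simp [ac, Matrix.mulVec_add]
theorem ac_zero (g : L3) : ac g 0 = 0 := by simp [ac]
theorem ac_inv (g : L3) (e : E3) : ac g⁻¹ (ac g e) = e := by rw [← ac_mul, inv_mul_cancel, ac_one]
theorem ac_inv' (g : L3) (e : E3) : ac g (ac g⁻¹ e) = e := by rw [← ac_mul, mul_inv_cancel, ac_one]
theorem ac_inj (g : L3) {e f : E3} (h : ac g e = ac g f) : e = f := by rw [← ac_inv g e, h, ac_inv]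
theorem ac_ne (g : L3) {e : E3} (h : e ≠ 0) : ac g e ≠ 0 := fun h' => h (ac_inj g (h'.trans (ac_zero g).symm))

def b1 : E3 := ![1, 0, 0]
def b2 : E3 := ![0, 1, 0]
def b3 : E3 := ![0, 0, 1]

def mkL (M N : M3) (h : M * N = 1) (h' : N * M = 1) : L3 := ⟨M, N, h, h'⟩

def a1 : L3 := mkL !![1,1,0;0,1,0;0,0,1] !![1,1,0;0,1,0;0,0,1] (by decide) (by decide)
def a2 : L3 := mkL !![1,0,1;0,1,0;0,0,1] !![1,0,1;0,1,0;0,0,1] (by decide) (by decide)
def a3 : L3 := mkL !![1,1,1;0,1,0;0,0,1] !![1,1,1;0,1,0;0,0,1] (by decide) (by decide)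
def g3 : L3 := mkL !![1,0,0;0,0,1;0,1,1] !![1,0,0;0,1,1;0,1,0] (by decide) (by decide)
def tt : L3 := mkL !![1,0,0;0,0,1;0,1,0] !![1,0,0;0,0,1;0,1,0] (by decide) (by decide)
def hh : L3 := mkL !![0,0,1;1,0,1;0,1,0] !![1,1,0;0,0,1;1,0,0] (by decide) (by decide)
/-- b1 -> b2 -> b1 + b2 -/
def cc : L3 := mkL !![0,1,0;1,1,0;0,0,1] !![1,1,0;1,0,0;0,0,1] (by decide) (by decide)
/-- swaps b1, b2 -/
def ss : L3 := mkL !![0,1,0;1,0,0;0,0,1] !![0,1,0;1,0,0;0,0,1] (by decide) (by decide)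

theorem ext_iff' {g h : L3} (H : (g : M3) = (h : M3)) : g = h := Units.ext H

theorem r1 : a1 * a1 = 1 := ext_iff' (by decide)
theorem r2 : a2 * a2 = 1 := ext_iff' (by decide)
theorem r3 : a3 * a3 = 1 := ext_iff' (by decide)
theorem r12 : a1 * a2 = a3 := ext_iff' (by decide)
theorem r21 : a2 * a1 = a3 := ext_iff' (by decide)
theorem rg : g3 * g3 * g3 = 1 := ext_iff' (by decide)
theorem rt : tt * tt = 1 := ext_iff' (by decide)
theorem rg1 : g3 * a1 = a3 * g3 := ext_iff' (by decide)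
theorem rg3 : g3 * a3 = a2 * g3 := ext_iff' (by decide)
theorem rg2 : g3 * a2 = a1 * g3 := ext_iff' (by decide)
theorem rt1 : tt * a1 = a2 * tt := ext_iff' (by decide)
theorem rt2 : tt * a2 = a1 * tt := ext_iff' (by decide)
theorem rtg : tt * g3 = g3 * g3 * tt := ext_iff' (by decide)
theorem rh : hh ^ 7 = 1 := ext_iff' (by decide)
theorem rgh : g3 * hh = hh ^ 2 * g3 := ext_iff' (by decide)

theorem fh : ∀ e : E3, ac hh e = e → e = 0 := by decide
theorem fa : ∀ e : E3, ac a1 e = e → ac a2 e = e → e = 0 ∨ e = b1 := by decide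
theorem fg : ∀ e : E3, ac g3 e = e → e = 0 ∨ e = b1 := by decide
theorem fcd : ∀ e : E3, ac cc e = e → ac a2 e = e → e = 0 := by decide
theorem fd : ∀ e : E3, ac a2 e = e → e = 0 ∨ e = b1 ∨ e = b2 ∨ e = b1 + b2 := by decide

theorem gen_aux : ∀ M : M3, M.mulVec b1 = b1 → M.det ≠ 0 → ∃ i j k l : Bool, ∃ m : Bool,
    M = (if i then (a1 : M3) else 1) * (if j then (a2 : M3) else 1) * (if k then (g3 : M3) else 1) *
      (if l then (g3 : M3) else 1) * (if m then (tt : M3) else 1) := by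
  decide +kernel

end Cfsg.Agent.H6.PyrNA
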