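import Cfsg.Agent.H6.PyrNA0

set_option autoImplicit false
set_option maxHeartbeats 1000000

/-!
S3930, piece NA: the action of GL(3,2) on an anisotropic quadratic map.
-/

namespace Cfsg.Agent.H6.PyrNA

/-- fixed points modulo p -/
theorem fix_mod {α : Type*} [Finite α] (P : α → Prop) (f : α → α) (hP : ∀ x, P x → P (f x)) (p : ℕ)
    [hp : Fact p.Prime] (hf : ∀ x, P x → f^[p] x = x) :
    Nat.card {x // P x} ≡ Nat.card {x // P x ∧ f x = x} [MOD p] := by
  classical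
  have := Fintype.ofFinite α
  let F : Function.End {x // P x} := fun x => ⟨f x.1, hP _ x.2⟩
  have hF : ∀ (n : ℕ) (x : {x // P x}), ((F ^ n) x : {x // P x}).1 = f^[n] x.1 := by
    intro n
    induction n with
    | zero => intro x; rfl
    | succ n ih =>
      intro x
      rw [pow_succ, Function.iterate_succ_apply]
      exact ih (F x)
  have h1 : F ^ p ^ 1 = 1 := by
    funext x
    apply Subtype.ext
    rw [pow_one, hF, hf _ x.2]
    rfl
  have h2 := Equiv.Perm.card_fixedPoints_modEq h1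
  rw [← Nat.card_eq_fintype_card, ← Nat.card_eq_fintype_card] at h2
  refine h2.trans ?_
  have h3 : Nat.card (Function.fixedPoints F) = Nat.card {x // P x ∧ f x = x} := by
    refine Nat.card_congr
      { toFun := fun x => ⟨x.1.1, x.1.2, congrArg Subtype.val x.2⟩
        invFun := fun x => ⟨⟨x.1, x.2.1⟩, Subtype.ext x.2.2⟩
        left_inv := fun x => rfl
        right_inv := fun x => rfl }
  rw [h3]

theorem card_split {α : Type*} [Finite α] (P R : α → Prop) :
    Nat.card {x // P x} = Nat.card {x // P x ∧ R x} + Nat.card {x // P x ∧ ¬ R x} := by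
  classical
  have := Fintype.ofFinite α
  simp only [Nat.card_eq_fintype_card, Fintype.card_subtype]
  rw [← Finset.filter_filter, ← Finset.filter_filter, Finset.card_filter_add_card_filter_not]

structure Dat {V : Type*} [AddCommGroup V] (ρ : L3 →* AddMonoid.End V) (q : V → E3) : Prop where
  two : ∀ v : V, v + v = 0
  pol : ∀ u v w : V, q (u + v + w) + q u + q v + q w = q (u + v) + q (u + w) + q (v + w)
  an : ∀ v, q v = 0 ↔ v = 0
  eq : ∀ g v, q (ρ g v) = ac g (q v)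

variable {V : Type*} [AddCommGroup V] [Finite V] {ρ : L3 →* AddMonoid.End V} {q : V → E3}

omit [Finite V] in
theorem rm (g h : L3) (v : V) : ρ (g * h) v = ρ g (ρ h v) := by rw [map_mul]; rfl

omit [Finite V] in
theorem r1' (v : V) : ρ 1 v = v := by rw [map_one]; rfl

theorem e2 (e : E3) : e + e = 0 := by revert e; decide

omit [Finite V] in
theorem rinj (g : L3) {v w : V} (h : ρ g v = ρ g w) : v = w := by
  rw [← r1' (ρ := ρ) v, ← inv_mul_cancel g, rm, h, ← rm, inv_mul_cancel, r1']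

omit [Finite V] in
theorem sum_pow (D : Dat ρ q) (x : L3) (hx : x ^ 7 = 1) (hfix : ∀ e : E3, ac x e = e → e = 0) (v : V) :
    ∑ i ∈ Finset.range 7, ρ (x ^ i) v = 0 := by
  set S := ∑ i ∈ Finset.range 7, ρ (x ^ i) v with hS
  have h1 : ρ x S = S := by
    rw [hS, map_sum]
    have h2 : ∀ i, ρ x (ρ (x ^ i) v) = ρ (x ^ (i + 1)) v := by
      intro i
      rw [← rm, ← pow_succ']
    simp only [h2]
    rw [Finset.sum_range_succ, Finset.sum_range_succ' (fun i => ρ (x ^ i) v)]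
    rw [show (6 : ℕ) + 1 = 7 from rfl, hx, pow_zero]
  have h2 := hfix (q S) (by rw [← D.eq, h1])
  exact (D.an S).1 h2

theorem hpow_eq (i : ℕ) : g3 * hh ^ i = hh ^ (2 * i) * g3 := by
  induction i with
  | zero => simp
  | succ i ih =>
    rw [pow_succ, ← mul_assoc, ih, mul_assoc, rgh, ← mul_assoc, ← pow_add]
    congr 2

theorem h7 (i j : ℕ) (h : i % 7 = j % 7) : hh ^ i = hh ^ j := by
  rw [pow_eq_pow_mod i rh, pow_eq_pow_mod j rh, h]

theorem g3_cube (w : V) : ρ g3 (ρ g3 (ρ g3 w)) = w := by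
  rw [← rm, ← rm, rg, r1']

omit [Finite V] in
theorem nofix (D : Dat ρ q) (h0 : ∀ w : V, w + ρ g3 w + ρ g3 (ρ g3 w) = 0) (v : V) : v = 0 := by
  have hfix6 : ∀ e : E3, ac (hh ^ 6) e = e → e = 0 := by
    intro e he
    apply fh
    have h1 : ∀ n, ac ((hh ^ 6) ^ n) e = e := by
      intro n
      induction n with
      | zero => rw [pow_zero, ac_one]
      | succ n ih => rw [pow_succ, ac_mul, he, ih]
    have h2 := h1 6
    rwa [← pow_mul, h7 (6 * 6) 1 (by norm_num), pow_one] at h2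
  have hfix4 : ∀ e : E3, ac (hh ^ 4) e = e → e = 0 := by
    intro e he
    apply fh
    have h1 : ∀ n, ac ((hh ^ 4) ^ n) e = e := by
      intro n
      induction n with
      | zero => rw [pow_zero, ac_one]
      | succ n ih => rw [pow_succ, ac_mul, he, ih]
    have h2 := h1 2
    rwa [← pow_mul, h7 (4 * 2) 1 (by norm_num), pow_one] at h2
  have s1 := sum_pow D (hh ^ 6) (by rw [← pow_mul, h7 (6 * 7) 0 (by norm_num), pow_zero]) hfix6 (ρ g3 v)
  have s2 := sum_pow D (hh ^ 4) (by rw [← pow_mul, h7 (4 * 7) 0 (by norm_num), pow_zero]) hfix4 (ρ g3 (ρ g3 v))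
  have key : ∀ i : ℕ, v + ρ ((hh ^ 6) ^ i) (ρ g3 v) + ρ ((hh ^ 4) ^ i) (ρ g3 (ρ g3 v)) = 0 := by
    intro i
    have h1 := congrArg (ρ (hh ^ i)) (h0 (ρ (hh ^ (6 * i)) v))
    rw [map_add, map_add, map_zero] at h1
    have e1 : ρ (hh ^ i) (ρ (hh ^ (6 * i)) v) = v := by
      rw [← rm, ← pow_add, h7 _ 0 (by omega), pow_zero, r1']
    have e2 : ρ (hh ^ i) (ρ g3 (ρ (hh ^ (6 * i)) v)) = ρ ((hh ^ 6) ^ i) (ρ g3 v) := by
      rw [← rm g3 (hh ^ (6 * i)), hpow_eq, rm _ g3, ← rm, ← pow_add, ← pow_mul, h7 (i + 2 * (6 * i)) (6 * i) (by omega)]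
    have e3 : ρ (hh ^ i) (ρ g3 (ρ g3 (ρ (hh ^ (6 * i)) v))) = ρ ((hh ^ 4) ^ i) (ρ g3 (ρ g3 v)) := by
      rw [← rm g3 (hh ^ (6 * i)), hpow_eq, rm _ g3, ← rm g3 (hh ^ _), hpow_eq, rm _ g3, ← rm, ← pow_add, ← pow_mul,
        h7 (i + 2 * (2 * (6 * i))) (4 * i) (by omega)]
    rw [e1, e2, e3] at h1
    exact h1
  have h2 : ∑ i ∈ Finset.range 7, (v + ρ ((hh ^ 6) ^ i) (ρ g3 v) + ρ ((hh ^ 4) ^ i) (ρ g3 (ρ g3 v))) = 0 :=
    Finset.sum_eq_zero fun i _ => key i
  rw [Finset.sum_add_distrib, Finset.sum_add_distrib, s1, s2, add_zero, add_zero, Finset.sum_const, Finset.card_range]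
    at h2
  have h3 : (7 : ℕ) • v = v := by
    have := D.two v
    calc (7 : ℕ) • v = (v + v) + (v + v) + (v + v) + v := by abel
      _ = v := by rw [this]; abel
  rwa [h3] at h2

theorem exists_fix (D : Dat ρ q) {v : V} (hv : v ≠ 0) : ∃ w : V, w ≠ 0 ∧ ρ g3 w = w := by
  by_contra hcon
  push Not at hcon
  refine hv (nofix D (fun w => ?_) v)
  by_contra h1
  apply hcon _ h1
  rw [map_add, map_add, g3_cube]
  abel

/-! ### the claim -/

omit [Finite V] in
theorem key3 {x : V} (hx : ρ g3 x = x) (h : ρ a1 x = x ∨ ρ a2 x = x ∨ ρ a3 x = x) : ρ a1 x = x ∧ ρ a2 x = x := by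
  have t1 : ρ a1 x = x → ρ a3 x = x := by
    intro h
    have := congrArg (ρ g3) h
    rwa [← rm, rg1, rm, hx] at this
  have t3 : ρ a3 x = x → ρ a2 x = x := by
    intro h
    have := congrArg (ρ g3) h
    rwa [← rm, rg3, rm, hx] at this
  have t2 : ρ a2 x = x → ρ a1 x = x := by
    intro h
    have := congrArg (ρ g3) h
    rwa [← rm, rg2, rm, hx] at this
  rcases h with h | h | h
  · exact ⟨h, t3 (t1 h)⟩
  · exact ⟨t2 h, h⟩
  · exact ⟨t2 (t3 h), t3 h⟩

/-- the a's -/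
def aa : Fin 4 → L3 := ![1, a1, a2, a3]

theorem aa_sq (i : Fin 4) : aa i * aa i = 1 := by
  fin_cases i
  · exact one_mul 1
  · exact r1
  · exact r2
  · exact r3

theorem aa_mul (i j : Fin 4) (h : i ≠ j) : ∃ k : Fin 4, k ≠ 0 ∧ aa i * aa j = aa k := by
  revert i j
  have h1 : ∀ i j : Fin 4, i ≠ j → ∃ k : Fin 4, k ≠ 0 ∧ ((aa i : L3) : M3) * ((aa j : L3) : M3) = ((aa k : L3) : M3) := by
    decide +kernel
  intro i j h
  obtain ⟨k, hk, hk2⟩ := h1 i j h
  exact ⟨k, hk, ext_iff' hk2⟩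

theorem aa_g3 (i : Fin 4) (h : i ≠ 0) : ∃ k : Fin 4, k ≠ 0 ∧ k ≠ i ∧ g3 * aa i = aa k * g3 := by
  revert i
  have h1 : ∀ i : Fin 4, i ≠ 0 → ∃ k : Fin 4, k ≠ 0 ∧ k ≠ i ∧ (g3 : M3) * ((aa i : L3) : M3) = ((aa k : L3) : M3) * (g3 : M3) := by
    decide +kernel
  intro i h
  obtain ⟨k, hk, hk1, hk2⟩ := h1 i h
  exact ⟨k, hk, hk1, ext_iff' hk2⟩

omit [Finite V] in
theorem aa_fix {x : V} (hx : ρ g3 x = x) {i : Fin 4} (hi : i ≠ 0) (h : ρ (aa i) x = x) : ρ a1 x = x ∧ ρ a2 x = x := by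
  apply key3 hx
  fin_cases i
  · exact absurd rfl hi
  · exact Or.inl h
  · exact Or.inr (Or.inl h)
  · exact Or.inr (Or.inr h)

omit [Finite V] in
theorem aa_b1 (i : Fin 4) : ac (aa i) b1 = b1 := by
  revert i
  decide

/-- `g3`-fixed points of the fibre lie in the fixed points of `A` -/
theorem g3_in (D : Dat ρ q) (h9 : Nat.card {x : V // q x = b1} = 9)
    (h3 : Nat.card {x : V // q x = b1 ∧ (ρ a1 x = x ∧ ρ a2 x = x)} = 3) (w : V) (hw : q w = b1)
    (hg : ρ g3 w = w) : ρ a1 w = w ∧ ρ a2 w = w := by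
  classical
  by_contra hcon
  have h6 : Nat.card {x : V // q x = b1 ∧ ¬ (ρ a1 x = x ∧ ρ a2 x = x)} = 6 := by
    have h1 := card_split (fun x : V => q x = b1) (fun x => ρ a1 x = x ∧ ρ a2 x = x)
    omega
  set Q := {x : V // (q x = b1 ∧ ¬ (ρ a1 x = x ∧ ρ a2 x = x)) ∧ ρ g3 x = x} with hQ
  have hmod : 6 ≡ Nat.card Q [MOD 3] := by
    rw [← h6]
    haveI : Fact (Nat.Prime 3) := ⟨Nat.prime_three⟩
    refine fix_mod (fun x => q x = b1 ∧ ¬ (ρ a1 x = x ∧ ρ a2 x = x)) (fun x => ρ g3 x) ?_ 3 ?_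
    · rintro x ⟨hx, hx2⟩
      refine ⟨by rw [D.eq, hx]; decide, ?_⟩
      rintro ⟨t1, t2⟩
      apply hx2
      rw [← rm, ← rg2, rm] at t1
      rw [← rm, ← rg3, rm] at t2
      have u1 := rinj g3 t1
      have u2 := rinj g3 t2
      refine ⟨?_, u1⟩
      rw [← r12, rm, u1] at u2
      exact u2
    · intro x _
      exact g3_cube x
  have hpos : 0 < Nat.card Q := by
    haveI : Nonempty Q := ⟨⟨w, ⟨hw, hcon⟩, hg⟩⟩
    exact Nat.card_pos
  have hle : Nat.card (Q × Fin 4) ≤ 6 := by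
    rw [← h6]
    refine Nat.card_le_card_of_injective (fun y : Q × Fin 4 => (⟨ρ (aa y.2) y.1.1, ?_, ?_⟩ :
      {x : V // q x = b1 ∧ ¬ (ρ a1 x = x ∧ ρ a2 x = x)})) ?_
    · rw [D.eq, y.1.2.1.1, aa_b1]
    · rintro ⟨t1, t2⟩
      apply y.1.2.1.2
      rw [← rm] at t1 t2
      have c1 : a1 * aa y.2 = aa y.2 * a1 := by
        generalize y.2 = i
        revert i
        have h1 : ∀ i : Fin 4, (a1 : M3) * ((aa i : L3) : M3) = ((aa i : L3) : M3) * (a1 : M3) := by decide +kernel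
        intro i
        exact ext_iff' (h1 i)
      have c2 : a2 * aa y.2 = aa y.2 * a2 := by
        generalize y.2 = i
        revert i
        have h1 : ∀ i : Fin 4, (a2 : M3) * ((aa i : L3) : M3) = ((aa i : L3) : M3) * (a2 : M3) := by decide +kernel
        intro i
        exact ext_iff' (h1 i)
      rw [c1, rm] at t1
      rw [c2, rm] at t2
      exact ⟨rinj _ t1, rinj _ t2⟩
    · rintro ⟨x, i⟩ ⟨y, j⟩ hxy
      have h1 : ρ (aa i) x.1 = ρ (aa j) y.1 := congrArg Subtype.val hxy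
      have h2 : x.1 = ρ (aa i * aa j) y.1 := by
        rw [rm, ← h1, ← rm, aa_sq, r1']
      by_cases hij : i = j
      · subst hij
        rw [aa_sq, r1'] at h2
        rw [Subtype.ext h2]
      · exfalso
        obtain ⟨k, hk, hk2⟩ := aa_mul i j hij
        rw [hk2] at h2
        obtain ⟨l, hl, hlk, hl2⟩ := aa_g3 k hk
        have h3 : x.1 = ρ (aa l) y.1 := by
          have := congrArg (ρ g3) h2
          rwa [x.2.2, ← rm, hl2, rm, y.2.2] at this
        obtain ⟨m, hm, hm2⟩ := aa_mul l k hlk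
        have h4 : ρ (aa m) y.1 = y.1 := by
          rw [← hm2, rm, ← h2, h3, ← rm, aa_sq, r1']
        exact y.2.1.2 (aa_fix y.2.2 hm h4)
  rw [Nat.card_prod, Nat.card_eq_fintype_card (α := Fin 4), Fintype.card_fin] at hle
  have h1 : Nat.card Q = 1 := by omega
  rw [h1] at hmod
  exact absurd hmod (by decide)

theorem b1ne : b1 ≠ 0 := by decide

theorem claim (D : Dat ρ q) (hc : Nat.card {x : V // q x = b1} = 1 ∨ Nat.card {x : V // q x = b1} = 9) :
    ∃ v : V, q v = b1 ∧ ∀ g, ac g b1 = b1 → ρ g v = v := by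
  classical
  haveI : Fact (Nat.Prime 2) := ⟨Nat.prime_two⟩
  haveI : Fact (Nat.Prime 3) := ⟨Nat.prime_three⟩
  have m1 : Nat.card {x : V // q x = b1} ≡ Nat.card {x : V // q x = b1 ∧ ρ a1 x = x} [MOD 2] := by
    refine fix_mod (fun x => q x = b1) (fun x => ρ a1 x) ?_ 2 ?_
    · intro x hx
      rw [D.eq, hx]; decide
    · intro x _
      show ρ a1 (ρ a1 x) = x
      rw [← rm, r1, r1']
  have m2 : Nat.card {x : V // q x = b1 ∧ ρ a1 x = x} ≡
      Nat.card {x : V // (q x = b1 ∧ ρ a1 x = x) ∧ ρ a2 x = x} [MOD 2] := by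
    refine fix_mod (fun x => q x = b1 ∧ ρ a1 x = x) (fun x => ρ a2 x) ?_ 2 ?_
    · rintro x ⟨hx, hx1⟩
      refine ⟨by rw [D.eq, hx]; decide, ?_⟩
      rw [← rm, r12, ← r21, rm, hx1]
    · intro x _
      show ρ a2 (ρ a2 x) = x
      rw [← rm, r2, r1']
  have m3 : Nat.card {x : V // (q x = b1 ∧ ρ a1 x = x) ∧ ρ a2 x = x} =
      Nat.card {x : V // q x = b1 ∧ (ρ a1 x = x ∧ ρ a2 x = x)} :=
    Nat.card_congr (Equiv.subtypeEquivRight fun x => and_assoc)
  have hodd : Nat.card {x : V // q x = b1 ∧ (ρ a1 x = x ∧ ρ a2 x = x)} % 2 = 1 := by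
    have := m1.trans m2
    rw [m3] at this
    rw [← this]
    rcases hc with h | h <;> rw [h]
  obtain ⟨u, hu1, hu2⟩ : ∃ u : V, q u = b1 ∧ (ρ a1 u = u ∧ ρ a2 u = u) := by
    by_contra hcon
    haveI : IsEmpty {x : V // q x = b1 ∧ (ρ a1 x = x ∧ ρ a2 x = x)} := ⟨fun x => hcon ⟨x.1, x.2⟩⟩
    rw [Nat.card_of_isEmpty] at hodd
    omega
  have hg3in : ∀ x : V, q x = b1 ∧ (ρ a1 x = x ∧ ρ a2 x = x) → q (ρ g3 x) = b1 ∧ (ρ a1 (ρ g3 x) = ρ g3 x ∧ ρ a2 (ρ g3 x) = ρ g3 x) := by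
    rintro x ⟨hx, hx1, hx2⟩
    refine ⟨by rw [D.eq, hx]; decide, ?_, ?_⟩
    · rw [← rm, ← rg2, rm, hx2]
    · rw [← rm, ← rg3, rm, ← r12, rm, hx2, hx1]
  have hall : ∀ x : V, q x = b1 ∧ (ρ a1 x = x ∧ ρ a2 x = x) → ρ g3 x = x := by
    by_cases huniq : ∀ w : V, q w = b1 ∧ (ρ a1 w = w ∧ ρ a2 w = w) → w = u
    · intro x hx
      rw [huniq _ (hg3in x hx), huniq x hx]
    · push Not at huniq
      obtain ⟨u', ⟨hu'1, hu'2, hu'3⟩, hne⟩ := huniq
      have hb1 : b1 ≠ 0 := b1ne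
      have hnz : ∀ x : V, x ≠ 0 → ρ a1 x = x → ρ a2 x = x → q x = b1 := by
        intro x hx h1 h2
        rcases fa (q x) (by rw [← D.eq, h1]) (by rw [← D.eq, h2]) with h | h
        · exact absurd ((D.an x).1 h) hx
        · exact h
      have hadd : ∀ x y : V, x + y = 0 → x = y := by
        intro x y h
        have h2 := D.two y
        rw [← h2] at h
        exact add_right_cancel h
      have h9 : Nat.card {x : V // q x = b1} = 9 := by
        rcases hc with h | h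
        · exfalso
          have := (Nat.card_eq_one_iff_unique.1 h).1
          exact hne (congrArg Subtype.val (this.elim ⟨u', hu'1⟩ ⟨u, hu1⟩))
        · exact h
      have hs1 : ρ a1 (u + u') = u + u' := by rw [map_add, hu2.1, hu'2]
      have hs2 : ρ a2 (u + u') = u + u' := by rw [map_add, hu2.2, hu'3]
      have hs0 : u + u' ≠ 0 := fun h => hne (hadd _ _ h).symm
      have hset : {x : V | q x = b1 ∧ (ρ a1 x = x ∧ ρ a2 x = x)} = {u, u', u + u'} := by
        ext w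
        simp only [Set.mem_setOf_eq, Set.mem_insert_iff, Set.mem_singleton_iff]
        constructor
        · rintro ⟨hw, hw1, hw2⟩
          by_contra hcon
          push Not at hcon
          obtain ⟨n1, n2, n3⟩ := hcon
          have p1 : q (w + u) = b1 := hnz _ (fun h => n1 (hadd _ _ h)) (by rw [map_add, hw1, hu2.1])
            (by rw [map_add, hw2, hu2.2])
          have p2 : q (w + u') = b1 := hnz _ (fun h => n2 (hadd _ _ h)) (by rw [map_add, hw1, hu'2])
            (by rw [map_add, hw2, hu'3])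
          have p3 : q (u + u') = b1 := hnz _ hs0 hs1 hs2
          have p4 : q (w + u + u') = b1 := hnz _ (fun h => n3 (hadd _ _ (by rwa [← add_assoc])))
            (by rw [map_add, map_add, hw1, hu2.1, hu'2]) (by rw [map_add, map_add, hw2, hu2.2, hu'3])
          have := D.pol w u u'
          rw [p1, p2, p3, p4, hw, hu1, hu'1] at this
          revert this
          decide
        · rintro (rfl | rfl | rfl)
          · exact ⟨hu1, hu2⟩
          · exact ⟨hu'1, hu'2, hu'3⟩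
          · exact ⟨hnz _ hs0 hs1 hs2, hs1, hs2⟩
      have hu0 : u ≠ 0 := fun h => hb1 (by rw [← hu1]; exact (D.an u).2 h)
      have hu'0 : u' ≠ 0 := fun h => hb1 (by rw [← hu'1]; exact (D.an u').2 h)
      have hn3 : Set.ncard {x : V | q x = b1 ∧ (ρ a1 x = x ∧ ρ a2 x = x)} = 3 := by
        rw [hset, Set.ncard_insert_of_notMem, Set.ncard_pair]
        · intro h
          exact hu0 (by simpa using h.symm)
        · simp only [Set.mem_insert_iff, Set.mem_singleton_iff, not_or]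
          refine ⟨hne.symm, fun h => hu'0 ?_⟩
          simpa using h.symm
      have h3 : Nat.card {x : V // q x = b1 ∧ (ρ a1 x = x ∧ ρ a2 x = x)} = 3 := hn3
      have hsub : {x : V | q x = b1 ∧ ρ g3 x = x} ⊆ {x : V | q x = b1 ∧ (ρ a1 x = x ∧ ρ a2 x = x)} := by
        rintro x ⟨hx, hx2⟩
        exact ⟨hx, g3_in D h9 h3 x hx hx2⟩
      have hmod : Nat.card {x : V // q x = b1} ≡ Nat.card {x : V // q x = b1 ∧ ρ g3 x = x} [MOD 3] := by
        refine fix_mod (fun x => q x = b1) (fun x => ρ g3 x) ?_ 3 ?_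
        · intro x hx
          rw [D.eq, hx]; decide
        · intro x _
          exact g3_cube x
      obtain ⟨w, hw0, hw⟩ := exists_fix D hu0
      have hqw : q w = b1 := by
        rcases fg (q w) (by rw [← D.eq, hw]) with h | h
        · exact absurd ((D.an w).1 h) hw0
        · exact h
      have hpos : 0 < Nat.card {x : V // q x = b1 ∧ ρ g3 x = x} := by
        haveI : Nonempty {x : V // q x = b1 ∧ ρ g3 x = x} := ⟨⟨w, hqw, hw⟩⟩
        exact Nat.card_pos
      rw [h9] at hmod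
      have hmod' : 9 % 3 = Nat.card {x : V // q x = b1 ∧ ρ g3 x = x} % 3 := hmod
      have hge : 3 ≤ Set.ncard {x : V | q x = b1 ∧ ρ g3 x = x} := by
        show 3 ≤ Nat.card {x : V // q x = b1 ∧ ρ g3 x = x}
        omega
      have heq := Set.eq_of_subset_of_ncard_le hsub (by rw [hn3]; exact hge) (Set.toFinite _)
      intro x hx
      have : x ∈ {x : V | q x = b1 ∧ ρ g3 x = x} := by rw [heq]; exact hx
      exact this.2
  have m4 : Nat.card {x : V // q x = b1 ∧ (ρ a1 x = x ∧ ρ a2 x = x)} ≡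
      Nat.card {x : V // (q x = b1 ∧ (ρ a1 x = x ∧ ρ a2 x = x)) ∧ ρ tt x = x} [MOD 2] := by
    refine fix_mod (fun x => q x = b1 ∧ (ρ a1 x = x ∧ ρ a2 x = x)) (fun x => ρ tt x) ?_ 2 ?_
    · rintro x ⟨hx, hx1, hx2⟩
      refine ⟨by rw [D.eq, hx]; decide, ?_, ?_⟩
      · rw [← rm, ← rt2, rm, hx2]
      · rw [← rm, ← rt1, rm, hx1]
    · intro x _
      show ρ tt (ρ tt x) = x
      rw [← rm, rt, r1']
  obtain ⟨v, ⟨hv, hv1, hv2⟩, hvt⟩ : ∃ v : V, (q v = b1 ∧ (ρ a1 v = v ∧ ρ a2 v = v)) ∧ ρ tt v = v := by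
    by_contra hcon
    haveI : IsEmpty {x : V // (q x = b1 ∧ (ρ a1 x = x ∧ ρ a2 x = x)) ∧ ρ tt x = x} := ⟨fun x => hcon ⟨x.1, x.2⟩⟩
    rw [Nat.card_of_isEmpty (α := {x : V // (q x = b1 ∧ (ρ a1 x = x ∧ ρ a2 x = x)) ∧ ρ tt x = x})] at m4
    have m5 : Nat.card {x : V // q x = b1 ∧ (ρ a1 x = x ∧ ρ a2 x = x)} % 2 = 0 % 2 := m4
    omega
  have hvg := hall v ⟨hv, hv1, hv2⟩
  refine ⟨v, hv, fun g hg => ?_⟩
  obtain ⟨i, j, k, l, m, h⟩ := gen_aux (g : M3) hg (Matrix.GeneralLinearGroup.det_ne_zero g)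
  have hg' : g = (bif i then a1 else 1) * (bif j then a2 else 1) * (bif k then g3 else 1) * (bif l then g3 else 1) *
      (bif m then tt else 1) := by
    apply ext_iff'
    rw [h]
    cases i <;> cases j <;> cases k <;> cases l <;> cases m <;> rfl
  have hb : ∀ (b : Bool) (x : L3), ρ x v = v → ρ (bif b then x else 1) v = v := by
    intro b x hx
    cases b
    · exact r1' v
    · exact hx
  rw [hg', rm, rm, rm, rm, hb m tt hvt, hb l g3 hvg, hb k g3 hvg, hb j a2 hv2, hb i a1 hv1]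

end Cfsg.Agent.H6.PyrNA
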