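import Cfsg.Agent.H6.PyrNA1

set_option autoImplicit false
set_option maxHeartbeats 1000000
set_option maxRecDepth 100000

/-!
S3930, piece NA: the submodule and the contradiction.
-/

namespace Cfsg.Agent.H6.PyrNA

/-- the matrix with given columns -/
def mk3 (e f k : E3) : M3 := fun i j => ![e i, f i, k i] j

set_option synthInstance.maxHeartbeats 1000000 in
set_option synthInstance.maxSize 1000 in
theorem trans_aux : ∀ e f : E3, e ≠ 0 → f ≠ 0 → e ≠ f → ∃ k : E3,
    (mk3 e f k).mulVec b1 = e ∧ (mk3 e f k).mulVec b2 = f ∧ (mk3 e f k).det ≠ 0 := by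
  decide +kernel

theorem trans2 (e f : E3) (he : e ≠ 0) (hf : f ≠ 0) (hef : e ≠ f) : ∃ g : L3, ac g b1 = e ∧ ac g b2 = f := by
  obtain ⟨k, h1, h2, h3⟩ := trans_aux e f he hf hef
  exact ⟨Matrix.GeneralLinearGroup.mkOfDetNeZero _ h3, h1, h2⟩

theorem other : ∀ e : E3, e ≠ 0 → ∃ f : E3, f ≠ 0 ∧ e ≠ f := by decide

theorem trans1 (e : E3) (he : e ≠ 0) : ∃ g : L3, ac g b1 = e := by
  obtain ⟨f, hf, hef⟩ := other e he
  obtain ⟨g, hg, -⟩ := trans2 e f he hf hef
  exact ⟨g, hg⟩

theorem cc1 : ac cc b1 = b2 := by decide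
theorem cc2 : ac cc b2 = b1 + b2 := by decide
theorem cc3 : ac cc (b1 + b2) = b1 := by decide
theorem a21 : ac a2 b1 = b1 := by decide
theorem a22 : ac a2 b2 = b2 := by decide
theorem a23 : ac a2 (b1 + b2) = b1 + b2 := by decide
theorem a11 : ac a1 b1 = b1 := by decide
theorem a12 : ac a1 b2 = b1 + b2 := by decide
theorem a13 : ac a1 (b1 + b2) = b2 := by decide
theorem ss1 : ac ss b1 = b2 := by decide
theorem ss2 : ac ss b2 = b1 := by decide
theorem b2ne : b2 ≠ 0 := by decide
theorem b3ne : b3 ≠ 0 := by decide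
theorem b12 : b1 ≠ b2 := by decide
theorem b13 : b1 ≠ b3 := by decide
theorem b23 : b2 ≠ b3 := by decide
theorem b12ne : b1 + b2 ≠ 0 := by decide
theorem b123 : b1 + b2 ≠ b3 := by decide
theorem two0 : (2 : E3) = 0 := by decide

variable {V : Type*} [AddCommGroup V] [Finite V] {ρ : L3 →* AddMonoid.End V} {q : V → E3}

omit [Finite V] in
theorem eq_of_add (D : Dat ρ q) {x y : V} (h : x + y = 0) : x = y := by
  have h2 := D.two y
  rw [← h2] at h
  exact add_right_cancel h

theorem e_of_add {x y : E3} (h : x + y = 0) : x = y := by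
  have h2 := e2 y
  rw [← h2] at h
  exact add_right_cancel h

theorem card_V (D : Dat ρ q) : Nat.card V = 1 + 7 * Nat.card {x : V // q x = b1} := by
  classical
  have := Fintype.ofFinite V
  have h1 : Nat.card V = ∑ e : E3, Nat.card {x : V // q x = e} := by
    rw [Nat.card_congr (Equiv.sigmaFiberEquiv q).symm, Nat.card_eq_fintype_card, Fintype.card_sigma]
    simp only [Nat.card_eq_fintype_card]
  have h2 : ∀ e : E3, Nat.card {x : V // q x = e} = if e = 0 then 1 else Nat.card {x : V // q x = b1} := by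
    intro e
    split_ifs with h
    · subst h
      rw [Nat.card_eq_one_iff_unique]
      exact ⟨⟨fun x y => Subtype.ext (((D.an _).1 x.2).trans ((D.an _).1 y.2).symm)⟩, ⟨⟨0, (D.an 0).2 rfl⟩⟩⟩
    · obtain ⟨g, hg⟩ := trans1 e h
      refine Nat.card_congr
        { toFun := fun x => ⟨ρ g⁻¹ x.1, by rw [D.eq, x.2, ← hg, ac_inv]⟩
          invFun := fun x => ⟨ρ g x.1, by rw [D.eq, x.2, hg]⟩
          left_inv := fun x => Subtype.ext (by
            show ρ g (ρ g⁻¹ x.1) = x.1
            rw [← rm, mul_inv_cancel, r1'])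
          right_inv := fun x => Subtype.ext (by
            show ρ g⁻¹ (ρ g x.1) = x.1
            rw [← rm, inv_mul_cancel, r1']) }
  rw [h1, Finset.sum_congr rfl (fun e _ => h2 e), Finset.sum_ite, Finset.sum_const, Finset.sum_const]
  have c1 : (Finset.univ.filter (fun e : E3 => e = 0)).card = 1 := by decide
  have c2 : (Finset.univ.filter (fun e : E3 => ¬ e = 0)).card = 7 := by decide
  rw [c1, c2]
  simp

/-- the submodule -/
structure VV (ρ : L3 →* AddMonoid.End V) (q : V → E3) (vv : E3 → V) : Prop where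
  qv : ∀ e, q (vv e) = e
  eqv : ∀ g e, ρ g (vv e) = vv (ac g e)
  add : ∀ e f, vv (e + f) = vv e + vv f

theorem exists_vv (D : Dat ρ q) (hc : Nat.card {x : V // q x = b1} = 1 ∨ Nat.card {x : V // q x = b1} = 9) :
    ∃ vv : E3 → V, VV ρ q vv := by
  classical
  obtain ⟨v1, hv1, hv1g⟩ := claim D hc
  choose gg hgg using trans1
  set vv : E3 → V := fun e => if h : e = 0 then 0 else ρ (gg e h) v1 with hvv
  have hvv0 : vv 0 = 0 := by rw [hvv]; simp
  have hvvn : ∀ e (h : e ≠ 0), vv e = ρ (gg e h) v1 := by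
    intro e h
    simp only [hvv]
    rw [dif_neg h]
  have hqv : ∀ e, q (vv e) = e := by
    intro e
    by_cases h : e = 0
    · rw [h, hvv0]; exact (D.an 0).2 rfl
    · rw [hvvn e h, D.eq, hv1, hgg]
  have heqv : ∀ g e, ρ g (vv e) = vv (ac g e) := by
    intro g e
    by_cases h : e = 0
    · rw [h, hvv0, map_zero, ac_zero, hvv0]
    · have h' := ac_ne g h
      rw [hvvn e h, hvvn _ h']
      have h1 := hv1g ((gg (ac g e) h')⁻¹ * (g * gg e h)) (by
        rw [ac_mul, ac_mul, hgg]
        calc ac (gg (ac g e) h')⁻¹ (ac g e) = ac (gg (ac g e) h')⁻¹ (ac (gg (ac g e) h') b1) := by rw [hgg]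
          _ = b1 := ac_inv _ _)
      rw [rm, rm] at h1
      conv_rhs => rw [← h1]
      rw [← rm _ _⁻¹, mul_inv_cancel, r1']
  have h12 : vv b1 + vv b2 + vv (b1 + b2) = 0 := by
    rw [← D.an]
    apply fcd
    · rw [← D.eq, map_add, map_add, heqv, heqv, heqv, cc1, cc2, cc3]
      congr 1
      abel
    · rw [← D.eq, map_add, map_add, heqv, heqv, heqv, a21, a22, a23]
  refine ⟨vv, hqv, heqv, fun e f => ?_⟩
  by_cases he : e = 0
  · rw [he, zero_add, hvv0, zero_add]
  by_cases hf : f = 0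
  · rw [hf, add_zero, hvv0, add_zero]
  by_cases hef : e = f
  · rw [hef, e2, hvv0, D.two]
  obtain ⟨g, hg1, hg2⟩ := trans2 e f he hf hef
  have h1 := congrArg (ρ g) h12
  rw [map_add, map_add, heqv, heqv, heqv, map_zero, ac_add, hg1, hg2] at h1
  exact (eq_of_add D h1).symm

theorem add8 (D : Dat ρ q) (h8 : Nat.card V = 8) (u v : V) : q (u + v) = q u + q v := by
  have h1 := card_V D
  obtain ⟨vv, W⟩ := exists_vv D (Or.inl (by omega))
  have hinj : Function.Injective vv := fun e f h => by rw [← W.qv e, h, W.qv]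
  have hbij : Function.Bijective vv := by
    have := Fintype.ofFinite V
    rw [Fintype.bijective_iff_injective_and_card]
    refine ⟨hinj, ?_⟩
    rw [← Nat.card_eq_fintype_card (α := V), h8]
    rfl
  obtain ⟨e, rfl⟩ := hbij.2 u
  obtain ⟨f, rfl⟩ := hbij.2 v
  rw [← W.add, W.qv, W.qv, W.qv]

/-- the form -/
def bb (q : V → E3) (v w : V) : E3 := q (v + w) + q v + q w

omit [Finite V] in
theorem bb_add (D : Dat ρ q) (u v w : V) : bb q u (v + w) = bb q u v + bb q u w := by
  have h := D.pol u v w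
  have h2 := two0
  simp only [bb]
  rw [← add_assoc u v w]
  linear_combination h + q (v + w) * h2 - (q u + q v + q w) * h2

omit [Finite V] in
theorem bb_comm (v w : V) : bb q v w = bb q w v := by
  simp only [bb]
  rw [add_comm v w]; abel

omit [Finite V] in
theorem bb_add' (D : Dat ρ q) (u v w : V) : bb q (u + v) w = bb q u w + bb q v w := by
  rw [bb_comm, bb_add D, bb_comm w u, bb_comm w v]

omit [Finite V] in
theorem bb_eq (D : Dat ρ q) (g : L3) (v w : V) : ac g (bb q v w) = bb q (ρ g v) (ρ g w) := by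
  simp only [bb]
  rw [← map_add, D.eq, D.eq, D.eq, ac_add, ac_add]

omit [Finite V] in
theorem bb_zero (D : Dat ρ q) (v : V) : bb q v 0 = 0 := by
  have h : q 0 = 0 := (D.an 0).2 rfl
  simp only [bb, add_zero, h, e2]

theorem false64 (D : Dat ρ q) (h64 : Nat.card V = 64) (hs : ∀ v : V, v ≠ 0 → ∀ e, ∃ w, q (v + w) + q v + q w = e) :
    False := by
  classical
  have hcV := card_V D
  obtain ⟨vv, W⟩ := exists_vv D (Or.inr (by omega))
  have vinj : Function.Injective vv := fun e f h => by rw [← W.qv e, h, W.qv]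
  have vv0 : vv 0 = 0 := (D.an _).1 (W.qv 0)
  have vne : ∀ e, e ≠ 0 → vv e ≠ 0 := fun e he h => he (vinj (h.trans vv0.symm))
  -- the kernel
  have hker : ∀ e, e ≠ 0 → ∀ w, bb q (vv e) w = 0 → ∃ f, w = vv f := by
    intro e he
    let F : V →+ E3 :=
      { toFun := fun w => bb q (vv e) w
        map_zero' := bb_zero D _
        map_add' := fun x y => bb_add D _ x y }
    have hF : Function.Surjective F := fun y => hs _ (vne e he) y
    have h1 : Nat.card F.ker * Nat.card E3 = Nat.card V := by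
      rw [← Nat.card_congr (QuotientAddGroup.quotientKerEquivOfSurjective F hF).toEquiv, mul_comm]
      exact (AddSubgroup.card_eq_card_quotient_mul_card_addSubgroup F.ker).symm
    have h2 : Nat.card E3 = 8 := by rw [Nat.card_eq_fintype_card]; rfl
    rw [h2, h64] at h1
    have h3 : Nat.card F.ker = 8 := by omega
    have h4 : ∀ f, vv f ∈ F.ker := by
      intro f
      rw [AddMonoidHom.mem_ker]
      show q (vv e + vv f) + q (vv e) + q (vv f) = 0
      rw [← W.add, W.qv, W.qv, W.qv]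
      linear_combination (e + f) * two0
    have h5 : Function.Bijective (fun f : E3 => (⟨vv f, h4 f⟩ : F.ker)) := by
      have := Fintype.ofFinite F.ker
      rw [Fintype.bijective_iff_injective_and_card]
      refine ⟨fun f g h => vinj (congrArg Subtype.val h), ?_⟩
      rw [← Nat.card_eq_fintype_card (α := F.ker), h3]
      rfl
    intro w hw
    obtain ⟨f, hf⟩ := h5.2 ⟨w, hw⟩
    exact ⟨f, (congrArg Subtype.val hf).symm⟩
  have hbv : ∀ e f, bb q (vv e) (vv f) = 0 := by
    intro e f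
    show q (vv e + vv f) + q (vv e) + q (vv f) = 0
    rw [← W.add, W.qv, W.qv, W.qv]
    linear_combination (e + f) * two0
  have In_add : ∀ x y : V, (∃ f, x = vv f) → (∃ f, y = vv f) → ∃ f, x + y = vv f := by
    rintro _ _ ⟨e, rfl⟩ ⟨f, rfl⟩
    exact ⟨e + f, (W.add e f).symm⟩
  have In_g : ∀ (g : L3) (x : V), (∃ f, x = vv f) → ∃ f, ρ g x = vv f := by
    rintro g _ ⟨e, rfl⟩
    exact ⟨_, W.eqv g e⟩
  have hd := D.two
  -- the transversal
  have hex : ∀ f : E3, ∃ x : V, (f ≠ 0 → bb q (vv f) x = f) ∧ (f = 0 → x = 0) := by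
    intro f
    by_cases hf : f = 0
    · exact ⟨0, fun h => absurd hf h, fun _ => rfl⟩
    · obtain ⟨x, hx⟩ := hs _ (vne f hf) f
      exact ⟨x, fun _ => hx, fun h => absurd h hf⟩
  choose xx hxx using hex
  have x0 : xx 0 = 0 := (hxx 0).2 rfl
  have xb : ∀ f, f ≠ 0 → bb q (vv f) (xx f) = f := fun f hf => (hxx f).1 hf
  have P1 : ∀ (g : L3) (f : E3), ∃ k, ρ g (xx f) + xx (ac g f) = vv k := by
    intro g f
    by_cases hf : f = 0
    · refine ⟨0, ?_⟩
      rw [hf, ac_zero, x0, map_zero, add_zero, vv0]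
    · apply hker (ac g f) (ac_ne g hf)
      rw [bb_add D, xb _ (ac_ne g hf), ← W.eqv, ← bb_eq D, xb f hf, e2]
  have b1n := b1ne
  have b2n := b2ne
  have b3n := b3ne
  have b12n := b12ne
  have P12 : ∃ k, xx b1 + xx b2 + xx (b1 + b2) = vv k := by
    set w := xx b1 + xx b2 + xx (b1 + b2) with hw
    have wa1 : ∃ k, ρ a1 w + w = vv k := by
      obtain ⟨k1, h1⟩ := P1 a1 b1
      obtain ⟨k2, h2⟩ := P1 a1 b2
      obtain ⟨k3, h3⟩ := P1 a1 (b1 + b2)
      rw [a11] at h1
      rw [a12] at h2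
      rw [a13] at h3
      refine ⟨k1 + k2 + k3, ?_⟩
      rw [W.add, W.add, ← h1, ← h2, ← h3, hw, map_add, map_add]
      abel
    have wa2 : ∃ k, ρ a2 w + w = vv k := by
      obtain ⟨k1, h1⟩ := P1 a2 b1
      obtain ⟨k2, h2⟩ := P1 a2 b2
      obtain ⟨k3, h3⟩ := P1 a2 (b1 + b2)
      rw [a21] at h1
      rw [a22] at h2
      rw [a23] at h3
      refine ⟨k1 + k2 + k3, ?_⟩
      rw [W.add, W.add, ← h1, ← h2, ← h3, hw, map_add, map_add]
      abel
    have wcc : ∃ k, ρ cc w + w = vv k := by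
      obtain ⟨k1, h1⟩ := P1 cc b1
      obtain ⟨k2, h2⟩ := P1 cc b2
      obtain ⟨k3, h3⟩ := P1 cc (b1 + b2)
      rw [cc1] at h1
      rw [cc2] at h2
      rw [cc3] at h3
      refine ⟨k1 + k2 + k3, ?_⟩
      rw [W.add, W.add, ← h1, ← h2, ← h3, hw, map_add, map_add]
      abel
    have fix : ∀ g : L3, ac g b1 = b1 → (∃ k, ρ g w + w = vv k) → ac g (bb q (vv b1) w) = bb q (vv b1) w := by
      rintro g hg ⟨k, hk⟩
      rw [bb_eq D, W.eqv, hg]
      apply e_of_add
      rw [← bb_add D, hk, hbv]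
    rcases fa _ (fix a1 a11 wa1) (fix a2 a21 wa2) with hβ | hβ
    · exact hker b1 b1n w hβ
    · exfalso
      have h1 : ∃ k, w + xx b1 = vv k := by
        apply hker b1 b1n
        rw [bb_add D, hβ, xb b1 b1n, e2]
      have h2 : ∃ k, w + xx b2 = vv k := by
        have t1 := In_g cc _ h1
        rw [map_add] at t1
        have t2 := P1 cc b1
        rw [cc1] at t2
        obtain ⟨k1, t1⟩ := t1
        obtain ⟨k2, t2⟩ := t2
        obtain ⟨k3, t3⟩ := wcc
        refine ⟨k1 + k2 + k3, ?_⟩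
        rw [W.add, W.add, ← t1, ← t2, ← t3]
        have e1 := hd (ρ cc w)
        have e2 := hd (ρ cc (xx b1))
        calc w + xx b2 = w + xx b2 + 0 + 0 := by abel
          _ = w + xx b2 + (ρ cc w + ρ cc w) + (ρ cc (xx b1) + ρ cc (xx b1)) := by rw [e1, e2]
          _ = _ := by abel
      have h3 : ∃ k, xx b1 + xx b2 = vv k := by
        obtain ⟨k1, t1⟩ := h1
        obtain ⟨k2, t2⟩ := h2
        refine ⟨k1 + k2, ?_⟩
        rw [W.add, ← t1, ← t2]
        have e1 := hd w
        calc xx b1 + xx b2 = xx b1 + xx b2 + 0 := by abel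
          _ = xx b1 + xx b2 + (w + w) := by rw [e1]
          _ = _ := by abel
      have h4 : ∀ u, u ≠ 0 → ∃ k, xx b1 + xx u = vv k := by
        intro u hu
        by_cases hu1 : b1 = u
        · rw [← hu1]
          exact ⟨0, by rw [hd, vv0]⟩
        · obtain ⟨g, hg1, hg2⟩ := trans2 b1 u b1n hu hu1
          obtain ⟨k1, t1⟩ := In_g g _ h3
          rw [map_add] at t1
          obtain ⟨k2, t2⟩ := P1 g b1
          rw [hg1] at t2
          obtain ⟨k3, t3⟩ := P1 g b2
          rw [hg2] at t3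
          refine ⟨k1 + k2 + k3, ?_⟩
          rw [W.add, W.add, ← t1, ← t2, ← t3]
          have e1 := hd (ρ g (xx b1))
          have e2 := hd (ρ g (xx b2))
          calc xx b1 + xx u = xx b1 + xx u + 0 + 0 := by abel
            _ = xx b1 + xx u + (ρ g (xx b1) + ρ g (xx b1)) + (ρ g (xx b2) + ρ g (xx b2)) := by rw [e1, e2]
            _ = _ := by abel
      have h5 : ∃ k, ρ hh (xx b1) + xx b1 = vv k := by
        obtain ⟨k1, t1⟩ := P1 hh b1
        obtain ⟨k2, t2⟩ := h4 (ac hh b1) (ac_ne hh b1n)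
        refine ⟨k1 + k2, ?_⟩
        rw [W.add, ← t1, ← t2]
        have e1 := hd (xx (ac hh b1))
        calc ρ hh (xx b1) + xx b1 = ρ hh (xx b1) + xx b1 + 0 := by abel
          _ = ρ hh (xx b1) + xx b1 + (xx (ac hh b1) + xx (ac hh b1)) := by rw [e1]
          _ = _ := by abel
      haveI : Fact (Nat.Prime 7) := ⟨by norm_num⟩
      have h6 : Nat.card {y : V // ∃ k, y + xx b1 = vv k} = 8 := by
        have : Nat.card E3 = 8 := by rw [Nat.card_eq_fintype_card]; rfl
        rw [← this]
        symm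
        refine Nat.card_congr (Equiv.ofBijective (fun k : E3 => (⟨vv k + xx b1, k, ?_⟩ : {y : V // ∃ k, y + xx b1 = vv k})) ⟨?_, ?_⟩)
        · rw [add_assoc, hd, add_zero]
        · intro k l hkl
          have := congrArg Subtype.val hkl
          exact vinj (add_right_cancel this)
        · rintro ⟨y, k, hk⟩
          refine ⟨k, Subtype.ext ?_⟩
          show vv k + xx b1 = y
          rw [← hk, add_assoc, hd, add_zero]
      have hit : ∀ (n : ℕ) (x : V), (fun y => ρ hh y)^[n] x = ρ (hh ^ n) x := by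
        intro n
        induction n with
        | zero => intro x; rw [pow_zero, r1']; rfl
        | succ n ih => intro x; rw [Function.iterate_succ_apply, ih, ← rm, ← pow_succ]
      have h7 : Nat.card {y : V // ∃ k, y + xx b1 = vv k} ≡
          Nat.card {y : V // (∃ k, y + xx b1 = vv k) ∧ ρ hh y = y} [MOD 7] := by
        refine fix_mod (fun y => ∃ k, y + xx b1 = vv k) (fun y => ρ hh y) ?_ 7 ?_
        · intro y hy
          obtain ⟨k1, t1⟩ := In_g hh _ hy
          rw [map_add] at t1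
          obtain ⟨k2, t2⟩ := h5
          refine ⟨k1 + k2, ?_⟩
          rw [W.add, ← t1, ← t2]
          have e1 := hd (ρ hh (xx b1))
          calc ρ hh y + xx b1 = ρ hh y + xx b1 + 0 := by abel
            _ = ρ hh y + xx b1 + (ρ hh (xx b1) + ρ hh (xx b1)) := by rw [e1]
            _ = _ := by abel
        · intro y _
          rw [hit, rh, r1']
      obtain ⟨y, ⟨k, hk⟩, hy⟩ : ∃ y : V, (∃ k, y + xx b1 = vv k) ∧ ρ hh y = y := by
        by_contra hcon
        haveI : IsEmpty {y : V // (∃ k, y + xx b1 = vv k) ∧ ρ hh y = y} := ⟨fun x => hcon ⟨x.1, x.2⟩⟩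
        rw [h6, Nat.card_of_isEmpty] at h7
        exact absurd h7 (by decide)
      have hy0 : y = 0 := (D.an y).1 (fh _ (by rw [← D.eq, hy]))
      rw [hy0, zero_add] at hk
      have := xb b1 b1n
      rw [hk, hbv] at this
      exact b1n this.symm
  have Pall : ∀ e f, ∃ k, xx e + xx f + xx (e + f) = vv k := by
    intro e f
    by_cases he : e = 0
    · rw [he, x0, zero_add, zero_add, hd]
      exact ⟨0, vv0.symm⟩
    by_cases hf : f = 0
    · rw [hf, x0, add_zero, add_zero, hd]
      exact ⟨0, vv0.symm⟩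
    by_cases hef : e = f
    · rw [hef, hd, e2, x0, add_zero]
      exact ⟨0, vv0.symm⟩
    obtain ⟨g, hg1, hg2⟩ := trans2 e f he hf hef
    obtain ⟨k0, t0⟩ := In_g g _ P12
    rw [map_add, map_add] at t0
    obtain ⟨k1, t1⟩ := P1 g b1
    obtain ⟨k2, t2⟩ := P1 g b2
    obtain ⟨k3, t3⟩ := P1 g (b1 + b2)
    rw [hg1] at t1
    rw [hg2] at t2
    rw [ac_add, hg1, hg2] at t3
    refine ⟨k0 + k1 + k2 + k3, ?_⟩
    rw [W.add, W.add, W.add, ← t0, ← t1, ← t2, ← t3]
    have e1 := hd (ρ g (xx b1))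
    have e2 := hd (ρ g (xx b2))
    have e3 := hd (ρ g (xx (b1 + b2)))
    calc xx e + xx f + xx (e + f) = xx e + xx f + xx (e + f) + 0 + 0 + 0 := by abel
      _ = xx e + xx f + xx (e + f) + (ρ g (xx b1) + ρ g (xx b1)) + (ρ g (xx b2) + ρ g (xx b2)) +
          (ρ g (xx (b1 + b2)) + ρ g (xx (b1 + b2))) := by rw [e1, e2, e3]
      _ = _ := by abel
  -- the product
  set st : E3 → E3 → E3 := fun e f => bb q (vv e) (xx f) with hst
  have st_add1 : ∀ e f k, st (e + f) k = st e k + st f k := by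
    intro e f k
    simp only [hst]
    rw [W.add, bb_add' D]
  have st_add2 : ∀ e f k, st e (f + k) = st e f + st e k := by
    intro e f k
    simp only [hst]
    obtain ⟨l, hl⟩ := Pall f k
    have h1 := hbv e l
    rw [← hl, bb_add D, bb_add D] at h1
    exact (e_of_add h1).symm
  have st_eq : ∀ g e f, ac g (st e f) = st (ac g e) (ac g f) := by
    intro g e f
    simp only [hst]
    obtain ⟨l, hl⟩ := P1 g f
    have h1 := hbv (ac g e) l
    rw [← hl, bb_add D] at h1
    rw [bb_eq D, W.eqv]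
    exact e_of_add h1
  have st_self : ∀ e, e ≠ 0 → st e e = e := fun e he => xb e he
  have st_ne : ∀ e f, e ≠ 0 → f ≠ 0 → st e f ≠ 0 := by
    intro e f he hf h
    obtain ⟨k, hk⟩ := hker e he _ h
    have := xb f hf
    rw [hk, hbv] at this
    exact hf this.symm
  have hcomm : st b1 b2 = st b2 b1 := by
    have h1 := st_self (b1 + b2) b12n
    rw [st_add1, st_add2, st_add2, st_self b1 b1n, st_self b2 b2n] at h1
    apply e_of_add
    linear_combination h1
  have h12 : st b1 b2 = b1 + b2 := by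
    have h1 : ac a2 (st b1 b2) = st b1 b2 := by rw [st_eq, a21, a22]
    have h2 : ac ss (st b1 b2) = st b1 b2 := by rw [st_eq, ss1, ss2, hcomm]
    have h3 := st_ne b1 b2 b1n b2n
    rcases fd _ h1 with h | h | h | h
    · exact absurd h h3
    · rw [h, ss1] at h2
      exact absurd h2.symm b12
    · rw [h, ss2] at h2
      exact absurd h2 b12
    · exact h
  have hgen : ∀ e f, e ≠ 0 → f ≠ 0 → e ≠ f → st e f = e + f := by
    intro e f he hf hef
    obtain ⟨g, hg1, hg2⟩ := trans2 e f he hf hef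
    rw [← hg1, ← hg2, ← st_eq, h12, ac_add]
  have h1 := st_add1 b1 b2 b3
  rw [hgen _ _ b12n b3n b123, hgen _ _ b1n b3n b13, hgen _ _ b2n b3n b23] at h1
  have h2 : b3 = 0 := by linear_combination -h1
  exact b3n h2

end Cfsg.Agent.H6.PyrNA
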