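import Cfsg.Agent.H6.PyrNA2
import Cfsg.Agent.H33.PyrQ

set_option autoImplicit false
set_option maxHeartbeats 1000000

/-!
S3930, piece NA: the 2-group.
-/

namespace Cfsg.Agent.H6.PyrNA

open Cfsg.Agent.H33 PyrQ

theorem core {Q : Type*} [Group Q] [Finite Q] (F : Subgroup Q) [F.Normal] (cen : ∀ e ∈ F, ∀ x : Q, e * x = x * e)
    (inv : ∀ x : Q, x ∈ F ↔ x * x = 1) (sq : ∀ x : Q, x * x ∈ F)
    (ψ : F → E3) (ψm : ∀ x y, ψ (x * y) = ψ x + ψ y) (ψi : Function.Bijective ψ)
    (σ : L3 → MulAut Q) (s1 : ∀ g (x : F), ψ ⟨σ g x, PyrQ.map_mem F inv (σ g) x.2⟩ = ac g (ψ x))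
    (s2 : ∀ g h (x : Q), (σ (g * h) x)⁻¹ * σ g (σ h x) ∈ F) (s3 : ∀ x : Q, (σ 1 x)⁻¹ * x ∈ F) :
    ∀ x y : Q, x * y = y * x := by
  classical
  have hc8 : Nat.card F = 8 := by
    rw [Nat.card_congr (Equiv.ofBijective ψ ψi), Nat.card_eq_fintype_card]
    rfl
  have ψ1 : ψ 1 = 0 := by
    have := ψm 1 1
    rw [one_mul] at this
    exact (left_eq_add.1 this)
  have ψ0 : ∀ x, ψ x = 0 ↔ x = 1 := by
    intro x
    constructor
    · intro h
      exact ψi.1 (h.trans ψ1.symm)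
    · rintro rfl
      exact ψ1
  letI : CommGroup (Q ⧸ F) := { (inferInstance : Group (Q ⧸ F)) with mul_comm := PyrQ.mk_comm F sq }
  let ρ : L3 →* AddMonoid.End (Additive (Q ⧸ F)) :=
    { toFun := fun g =>
        { toFun := fun v => Additive.ofMul (PyrQ.mapE F inv (σ g) v.toMul)
          map_zero' := congrArg Additive.ofMul (map_one _)
          map_add' := fun u v => congrArg Additive.ofMul (map_mul _ _ _) }
      map_one' := by
        ext v
        obtain ⟨x, hx⟩ := QuotientGroup.mk_surjective v.toMul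
        show Additive.ofMul (PyrQ.mapE F inv (σ 1) v.toMul) = v
        rw [← hx, PyrQ.mapE_mk]
        have : ((σ 1 x : Q) : Q ⧸ F) = (x : Q ⧸ F) := QuotientGroup.eq.2 (s3 x)
        rw [this]
        exact congrArg Additive.ofMul hx
      map_mul' := by
        intro g h
        ext v
        obtain ⟨x, hx⟩ := QuotientGroup.mk_surjective v.toMul
        show Additive.ofMul (PyrQ.mapE F inv (σ (g * h)) v.toMul) =
          Additive.ofMul (PyrQ.mapE F inv (σ g) (PyrQ.mapE F inv (σ h) v.toMul))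
        rw [← hx, PyrQ.mapE_mk, PyrQ.mapE_mk, PyrQ.mapE_mk]
        exact congrArg Additive.ofMul (QuotientGroup.eq.2 (s2 g h x)) }
  let qq : Additive (Q ⧸ F) → E3 := fun v => ψ (PyrQ.q F sq v.toMul)
  have hqq : ∀ x : Q, qq (Additive.ofMul (x : Q ⧸ F)) = ψ ⟨x * x, sq x⟩ := by
    intro x
    show ψ (PyrQ.q F sq (x : Q ⧸ F)) = _
    rw [PyrQ.q_mk F cen inv sq]
  have hD : Dat ρ qq := by
    refine ⟨?_, ?_, ?_, ?_⟩
    · intro v
      obtain ⟨x, hx⟩ := QuotientGroup.mk_surjective v.toMul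
      have : v.toMul * v.toMul = 1 := by
        rw [← hx, ← QuotientGroup.mk_mul]; exact (QuotientGroup.eq_one_iff _).2 (sq x)
      exact congrArg Additive.ofMul this
    · intro u v w
      obtain ⟨x, hx⟩ := QuotientGroup.mk_surjective u.toMul
      obtain ⟨y, hy⟩ := QuotientGroup.mk_surjective v.toMul
      obtain ⟨z, hz⟩ := QuotientGroup.mk_surjective w.toMul
      have hu : u = Additive.ofMul (x : Q ⧸ F) := congrArg Additive.ofMul hx.symm
      have hv : v = Additive.ofMul (y : Q ⧸ F) := congrArg Additive.ofMul hy.symm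
      have hw : w = Additive.ofMul (z : Q ⧸ F) := congrArg Additive.ofMul hz.symm
      rw [hu, hv, hw, ← ofMul_mul, ← ofMul_mul, ← ofMul_mul, ← ofMul_mul, ← QuotientGroup.mk_mul,
        ← QuotientGroup.mk_mul, ← QuotientGroup.mk_mul, ← QuotientGroup.mk_mul, hqq, hqq, hqq, hqq, hqq, hqq, hqq,
        ← ψm, ← ψm, ← ψm, ← ψm, ← ψm]
      congr 1
      exact Subtype.ext (PyrQ.polar F cen sq x y z)
    · intro v
      obtain ⟨x, hx⟩ := QuotientGroup.mk_surjective v.toMul
      have hv : v = Additive.ofMul (x : Q ⧸ F) := congrArg Additive.ofMul hx.symm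
      rw [hv, hqq, ψ0]
      constructor
      · intro h
        have h1 : x * x = 1 := congrArg Subtype.val h
        exact congrArg Additive.ofMul ((QuotientGroup.eq_one_iff x).2 ((inv x).2 h1))
      · intro h
        have h1 : (x : Q ⧸ F) = 1 := congrArg Additive.toMul h
        exact Subtype.ext ((inv x).1 ((QuotientGroup.eq_one_iff x).1 h1))
    · intro g v
      obtain ⟨x, hx⟩ := QuotientGroup.mk_surjective v.toMul
      have hv : v = Additive.ofMul (x : Q ⧸ F) := congrArg Additive.ofMul hx.symm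
      have h1 : ρ g (Additive.ofMul (x : Q ⧸ F)) = Additive.ofMul ((σ g x : Q) : Q ⧸ F) := rfl
      rw [hv, h1, hqq, hqq, ← s1]
      congr 1
      exact Subtype.ext (map_mul (σ g) x x).symm
  have hcard : Nat.card (Additive (Q ⧸ F)) = F.index := rfl
  have htr : ∀ x ∈ F, ∀ y ∈ F, x ≠ 1 → y ≠ 1 → ∃ β : MulAut Q, β x = y := by
    intro x hx y hy hx1 hy1
    have h1 : ψ ⟨x, hx⟩ ≠ 0 := fun h => hx1 (congrArg Subtype.val ((ψ0 _).1 h))
    have h2 : ψ ⟨y, hy⟩ ≠ 0 := fun h => hy1 (congrArg Subtype.val ((ψ0 _).1 h))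
    obtain ⟨g, hg⟩ := trans1 _ h1
    obtain ⟨k, hk⟩ := trans1 _ h2
    refine ⟨σ (k * g⁻¹), ?_⟩
    have h3 := s1 (k * g⁻¹) ⟨x, hx⟩
    rw [← hg, ac_mul, ac_inv, hk] at h3
    exact congrArg Subtype.val (ψi.1 h3)
  rcases PyrQ.quadQ F cen inv sq htr (by omega) with h | ⟨h, -⟩ | ⟨h, hs⟩
  · intro x y
    exact cen x (by rw [h]; trivial) y
  · have hadd := add8 hD (by rw [hcard, h, hc8])
    intro x y
    have h1 := hadd (Additive.ofMul (x : Q ⧸ F)) (Additive.ofMul (y : Q ⧸ F))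
    rw [← ofMul_mul, ← QuotientGroup.mk_mul, hqq, hqq, hqq, ← ψm] at h1
    have h2 : (x * y) * (x * y) = (x * x) * (y * y) := congrArg Subtype.val (ψi.1 h1)
    rw [PyrQ.sq_mul F cen sq x y] at h2
    have h3 : x⁻¹ * y * x * y⁻¹ = 1 := by
      have : (x * x) * (y * y) * (x⁻¹ * y * x * y⁻¹) = (x * x) * (y * y) * 1 := by rw [h2, mul_one]
      exact mul_left_cancel this
    have h4 : y * x = x * y := by
      calc y * x = x * (x⁻¹ * y * x * y⁻¹) * y := by group
        _ = x * y := by rw [h3, mul_one]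
    exact h4.symm
  · exfalso
    refine false64 hD (by rw [hcard, h, hc8]; norm_num) ?_
    intro v hv e
    obtain ⟨x, hx⟩ := QuotientGroup.mk_surjective v.toMul
    have hvx : v = Additive.ofMul (x : Q ⧸ F) := congrArg Additive.ofMul hx.symm
    have hxF : x ∉ F := by
      intro hxF
      apply hv
      rw [hvx]
      exact congrArg Additive.ofMul ((QuotientGroup.eq_one_iff x).2 hxF)
    obtain ⟨f, hf⟩ := ψi.2 e
    obtain ⟨y, hy⟩ := hs x hxF f f.2
    refine ⟨Additive.ofMul (y : Q ⧸ F), ?_⟩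
    rw [hvx, ← ofMul_mul, ← QuotientGroup.mk_mul, hqq, hqq, hqq, ← ψm, ← ψm, ← hf]
    congr 1
    exact Subtype.ext hy

end Cfsg.Agent.H6.PyrNA
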